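import Mathlib
import Groth.Agent.Lib.Helper1.LocalCrit
import Groth.Agent.Lib.Helper2.CompleteNoeth

/-! helper7: completion of a local hom of Noetherian local rings is flat iff the hom is flat (S9231). -/

set_option linter.style.haveILetI false
set_option linter.unusedVariables false
set_option linter.unusedSectionVars false

open TensorProduct IsLocalRing

namespace Groth.Agent.Helper7.ComplFlat

universe u

theorem main (A B : Type u) [CommRing A] [CommRing B] [IsLocalRing A]
    [IsLocalRing B] [IsNoetherianRing A] [IsNoetherianRing B] [Algebra A B]
    [IsLocalHom (algebraMap A B)]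
    (ψ : AdicCompletion (IsLocalRing.maximalIdeal A) A →+* AdicCompletion (IsLocalRing.maximalIdeal B) B)
    (hψ : ψ.comp (algebraMap A (AdicCompletion (IsLocalRing.maximalIdeal A) A)) =
      (algebraMap B (AdicCompletion (IsLocalRing.maximalIdeal B) B)).comp (algebraMap A B)) :
    ψ.Flat ↔ (algebraMap A B).Flat := by
  letI : Algebra (AdicCompletion (maximalIdeal A) A) (AdicCompletion (maximalIdeal B) B) :=
    ψ.toAlgebra
  have hst1 : IsScalarTower A B (AdicCompletion (maximalIdeal B) B) := inferInstance
  have hst2 : IsScalarTower A (AdicCompletion (maximalIdeal A) A)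
      (AdicCompletion (maximalIdeal B) B) := by
    refine IsScalarTower.of_algebraMap_eq (fun a => ?_)
    have := RingHom.congr_fun hψ a
    rw [IsScalarTower.algebraMap_apply A B (AdicCompletion (maximalIdeal B) B)]
    exact this.symm
  have hffB : Module.FaithfullyFlat B (AdicCompletion (maximalIdeal B) B) :=
    Module.FaithfullyFlat.of_flat_of_isLocalHom
  have hffA : Module.FaithfullyFlat A (AdicCompletion (maximalIdeal A) A) :=
    Module.FaithfullyFlat.of_flat_of_isLocalHom
  rw [RingHom.flat_algebraMap_iff]
  change Module.Flat (AdicCompletion (maximalIdeal A) A) (AdicCompletion (maximalIdeal B) B) ↔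
    Module.Flat A B
  constructor
  · intro h
    have : Module.Flat A (AdicCompletion (maximalIdeal B) B) :=
      Module.Flat.trans A (AdicCompletion (maximalIdeal A) A) (AdicCompletion (maximalIdeal B) B)
    exact Groth.Agent.Helper1.LocalCrit.flat_of_faithfullyFlat_of_flat (R := A) (S := B)
      (AdicCompletion (maximalIdeal B) B)
  · intro h
    have hfl : Module.Flat A (AdicCompletion (maximalIdeal B) B) :=
      Module.Flat.trans A B (AdicCompletion (maximalIdeal B) B)
    have h1 : Function.Injective
        ((maximalIdeal A).subtype.rTensor (AdicCompletion (maximalIdeal B) B)) :=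
      Module.Flat.rTensor_preserves_injective_linearMap _ (Submodule.subtype_injective _)
    have h2 := Groth.Agent.Helper1.LocalCrit.rTensor_map_subtype_injective
      (S := AdicCompletion (maximalIdeal A) A) (maximalIdeal A)
      (AdicCompletion (maximalIdeal B) B) h1
    haveI : IsNoetherianRing (AdicCompletion (maximalIdeal A) A) :=
      Groth.Agent.Helper2.CompleteNoeth.isNoetherianRing_adicCompletion A (maximalIdeal A)
        (maximalIdeal A).fg_of_isNoetherianRing
    haveI : IsNoetherianRing (AdicCompletion (maximalIdeal B) B) :=
      Groth.Agent.Helper2.CompleteNoeth.isNoetherianRing_adicCompletion B (maximalIdeal B)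
        (maximalIdeal B).fg_of_isNoetherianRing
    haveI hmax : ((maximalIdeal A).map
        (algebraMap A (AdicCompletion (maximalIdeal A) A))).IsMaximal := by
      rw [← AdicCompletion.maximalIdeal_eq_map]
      infer_instance
    letI : Field (AdicCompletion (maximalIdeal A) A ⧸ (maximalIdeal A).map
        (algebraMap A (AdicCompletion (maximalIdeal A) A))) := Ideal.Quotient.field _
    have hI : ((maximalIdeal A).map (algebraMap A (AdicCompletion (maximalIdeal A) A))).map
        (algebraMap (AdicCompletion (maximalIdeal A) A) (AdicCompletion (maximalIdeal B) B)) ≠ ⊤ := by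
      rw [Ideal.map_map]
      have e : (algebraMap (AdicCompletion (maximalIdeal A) A)
          (AdicCompletion (maximalIdeal B) B)).comp
          (algebraMap A (AdicCompletion (maximalIdeal A) A)) =
          (algebraMap B (AdicCompletion (maximalIdeal B) B)).comp (algebraMap A B) := hψ
      rw [e, ← Ideal.map_map]
      apply Groth.Agent.Helper1.LocalCrit.map_ne_top_of_isLocalHom
      apply Groth.Agent.Helper1.LocalCrit.map_ne_top_of_isLocalHom
      exact (IsLocalRing.maximalIdeal.isMaximal A).ne_top
    exact Groth.Agent.Helper1.LocalCrit.flat_of_rTensor_injective_of_flat_quotient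
      (R := AdicCompletion (maximalIdeal A) A) (S := AdicCompletion (maximalIdeal B) B)
      (M := AdicCompletion (maximalIdeal B) B)
      ((maximalIdeal A).map (algebraMap A (AdicCompletion (maximalIdeal A) A))) hI h2

end Groth.Agent.Helper7.ComplFlat
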